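import Mathlib
import Groth.Prelude.Def_Curv2
import Groth.Prelude.Def_Pi1
import Groth.Agent.Lib.Helper2.NormFam.Main
import Groth.Agent.Lib.Helper4.ProperPush1
import Groth.Agent.Lib.Helper1.Conn1

/-!
# Birational morphisms of normal curve families induce isomorphisms on sections (helper2)
-/

set_option autoImplicit false
set_option backward.isDefEq.respectTransparency.types false
set_option synthInstance.maxHeartbeats 400000
set_option maxHeartbeats 4000000
set_option linter.style.haveILetI false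
set_option linter.unusedSectionVars false
set_option linter.unusedVariables false
universe u

open CategoryTheory CategoryTheory.Limits AlgebraicGeometry TopologicalSpace

namespace Groth.Agent.Helper2.BirFam

/-- total space of a flat proper lfp family with geometrically connected fibres and normal total space
over an integral Noetherian base is integral -/
theorem isIntegral_total (S C : Scheme.{u}) [IsIntegral S] [IsNoetherian S]
    (f : C ⟶ S) [Flat f] [IsProper f] [LocallyOfFinitePresentation f] [GeometricallyConnected f]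
    (hN : Pi1.IsNormalScheme C) : IsIntegral C := by
  haveI : IsLocallyNoetherian C := LocallyOfFiniteType.isLocallyNoetherian f
  haveI : CompactSpace C := QuasiCompact.compactSpace_of_compactSpace f
  haveI : IsNoetherian C := { }
  haveI : ConnectedSpace C := GeometricallyConnected.connectedSpace f f.isOpenMap
  exact Groth.Agent.Helper1.Conn1.isIntegral_of_connected C (fun x => (hN x).1)

/-- a morphism which is an isomorphism over an open `U` is surjective onto `U` -/
theorem exists_preimage_of_isIso_restrict {X Y : Scheme.{u}} (φ : X ⟶ Y) (U : Y.Opens)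
    [IsIso (φ ∣_ U)] (y : Y) (hy : y ∈ U) : ∃ x : X, x ∈ φ ⁻¹ᵁ U ∧ φ x = y := by
  let x' : ↥(φ ⁻¹ᵁ U) := (inv (φ ∣_ U)) ⟨y, hy⟩
  refine ⟨x'.1, x'.2, ?_⟩
  have h1 : ((φ ∣_ U) x').1 = φ x'.1 := morphismRestrict_base_coe φ U x'
  rw [← h1]
  have h2 : (φ ∣_ U) x' = ⟨y, hy⟩ := by
    change (φ ∣_ U) ((inv (φ ∣_ U)) ⟨y, hy⟩) = _
    rw [← Scheme.Hom.comp_apply, IsIso.inv_hom_id]
    rfl
  rw [h2]

theorem isIso_stalkMap_of_isIso_restrict {X Y : Scheme.{u}} (φ : X ⟶ Y) (U : Y.Opens)
    [IsIso (φ ∣_ U)] (x : X) (hx : x ∈ φ ⁻¹ᵁ U) : IsIso (φ.stalkMap x) := by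
  have e := morphismRestrictStalkMap φ U ⟨x, hx⟩
  have h1 : IsIso ((φ ∣_ U).stalkMap ⟨x, hx⟩) := inferInstance
  exact ((MorphismProperty.isomorphisms CommRingCat).arrow_mk_iso_iff e).mp h1

theorem main (S C₁ C₂ : Scheme.{u}) [IsIntegral S]
    [IsNoetherian S] (hS : Pi1.IsNormalScheme S) (f₁ : C₁ ⟶ S) (f₂ : C₂ ⟶ S)
    [Flat f₁] [IsProper f₁] [LocallyOfFinitePresentation f₁] [GeometricallyReduced f₁]
    [GeometricallyConnected f₁]
    [Flat f₂] [IsProper f₂] [LocallyOfFinitePresentation f₂] [GeometricallyReduced f₂]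
    [GeometricallyConnected f₂]
    (hsm₁ : Smooth (f₁.fiberToSpecResidueField (genericPoint ↥S)))
    (hsm₂ : Smooth (f₂.fiberToSpecResidueField (genericPoint ↥S)))
    (φ : C₁ ⟶ C₂) (hφ : φ ≫ f₂ = f₁)
    (hbir : ∃ U : C₂.Opens, Dense (U : Set ↥C₂) ∧ IsIso (φ ∣_ U)) :
    ∀ V : C₂.Opens, IsIso (φ.app V) := by
  have hN1 := Groth.Agent.Helper2.NormFam.main S C₁ hS f₁ hsm₁
  have hN2 := Groth.Agent.Helper2.NormFam.main S C₂ hS f₂ hsm₂
  haveI : IsIntegral C₁ := isIntegral_total S C₁ f₁ hN1
  haveI : IsIntegral C₂ := isIntegral_total S C₂ f₂ hN2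
  haveI : IsProper (φ ≫ f₂) := by rw [hφ]; infer_instance
  haveI : IsProper φ := IsProper.of_comp φ f₂
  obtain ⟨U, hUd, hUiso⟩ := hbir
  haveI := hUiso
  -- generic points
  have hUne : (U : Set C₂).Nonempty := hUd.nonempty
  have hη₂U : genericPoint C₂ ∈ U :=
    ((genericPoint_spec C₂).mem_open_set_iff U.isOpen).mpr (by simpa using hUne)
  have hpre_ne : ∀ W : C₂.Opens, W ≤ U → (W : Set C₂).Nonempty → genericPoint C₁ ∈ φ ⁻¹ᵁ W := by
    intro W hWU hW
    obtain ⟨w, hw⟩ := hW
    obtain ⟨x, hx, hxw⟩ := exists_preimage_of_isIso_restrict φ U w (hWU hw)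
    have hne : ((φ ⁻¹ᵁ W : C₁.Opens) : Set C₁).Nonempty := ⟨x, by
      change φ x ∈ W
      rw [hxw]; exact hw⟩
    exact ((genericPoint_spec C₁).mem_open_set_iff (φ ⁻¹ᵁ W).isOpen).mpr (by simpa using hne)
  have hη₁ : genericPoint C₁ ∈ φ ⁻¹ᵁ U := hpre_ne U le_rfl hUne
  have hdom : φ.base (genericPoint C₁) ⤳ genericPoint C₂ := by
    rw [specializes_iff_mem_closure]
    by_contra hcon
    let W : C₂.Opens := U ⊓ ⟨(closure {φ.base (genericPoint C₁)})ᶜ, isClosed_closure.isOpen_compl⟩
    have hW : (W : Set C₂).Nonempty := ⟨genericPoint C₂, hη₂U, hcon⟩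
    have h1 := hpre_ne W inf_le_left hW
    have h2 : φ (genericPoint C₁) ∈ (closure {φ.base (genericPoint C₁)})ᶜ := h1.2
    exact h2 (subset_closure rfl)
  have hsurj : Function.Surjective
      (CohIII.stalkToFunctionField φ (genericPoint C₂) hdom) := by
    unfold CohIII.stalkToFunctionField
    haveI := isIso_stalkMap_of_isIso_restrict φ U (genericPoint C₁) hη₁
    have hb1 : Function.Bijective (φ.stalkMap (genericPoint C₁)).hom :=
      (ConcreteCategory.isIso_iff_bijective _).mp inferInstance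
    have heq : φ (genericPoint C₁) = genericPoint C₂ :=
      Groth.Agent.Lib.Helper4.ProperPush1.map_genericPoint_of_specializes φ hdom
    have hb2 : Function.Bijective (C₂.presheaf.stalkSpecializes hdom).hom := by
      have : IsIso (C₂.presheaf.stalkSpecializes hdom) :=
        (TopCat.Presheaf.stalkCongr C₂.presheaf (Inseparable.of_eq heq.symm)).isIso_hom
      exact (ConcreteCategory.isIso_iff_bijective _).mp this
    exact hb1.2.comp hb2.2
  exact Groth.Agent.Lib.Helper4.ProperPush1.S2422_main hN2 φ hdom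
    (fun x _ => hsurj x)

end Groth.Agent.Helper2.BirFam
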